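import Cfsg.Agent.LThreeMB.Quo
import Cfsg.Agent.H626.LD.TwentyNine
import Cfsg.Agent.H847.MonDeg
import Cfsg.Agent.LThreeMBTr.Adapt
import Cfsg.Agent.CharactersDeep.CosetAverage
import Cfsg.Agent.H935.Fi23.MPart
import Cfsg.Agent.H606.OreM.ZB
import Cfsg.Agent.MonsterP.Equiv
import Cfsg.Agent.LargeExtra.W2.CharKill.Numbers
import Cfsg.Agent.H849.ThreeNorm

/-!
# The character of `Fi24'` on the fixed space of a 3A element of the Monster (helper676, S4910, row Fi24', piece A1)

* `exists_chi` : the trace on the 196884-dimensional space minus 1 is an irreducible character of the group of the model;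
* `A1` : if an `x` of order 3 with `C(x) / ⟨x⟩ ≅ Fi24'` has trace 783, then `Fi24'` has a character of degree 66149 which
  vanishes on the elements of order 29.
-/

set_option autoImplicit false

namespace Cfsg.Agent.H676.Fi24.W

open Cfsg Cfsg.Agent.BpSpor.MBigModel Cfsg.Agent.Characters Cfsg.Agent.Characters.Core
open Cfsg.Agent.MonsterX.Space (V)
open Cfsg.Agent.MonsterX.InstData (M_finrank)
open Cfsg.Agent.LThreeMBTr (chr)
open Subgroup (centralizer mem_centralizer_singleton_iff)
open Cfsg.Agent.LThreeMB (XX)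

/-- The action of the group of the model. -/
noncomputable def act : MG →* Module.End ℚ V where
  toFun g := ((g : V ≃ₗ[ℚ] V) : V →ₗ[ℚ] V)
  map_one' := rfl
  map_mul' _ _ := rfl

theorem fin : FiniteDimensional ℚ V := Module.finite_of_finrank_pos (by rw [M_finrank]; norm_num)

/-- The complex representation. -/
noncomputable def rho : Representation ℂ MG (TensorProduct ℚ ℂ V) :=
  ((Module.End.baseChangeHom ℚ ℂ V : Module.End ℚ V →ₐ[ℚ] Module.End ℂ (TensorProduct ℚ ℂ V)) :
    Module.End ℚ V →* Module.End ℂ (TensorProduct ℚ ℂ V)).comp act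

theorem rho_char (g : MG) : rho.character g = ((chr V g : ℚ) : ℂ) := by
  have := fin
  show LinearMap.trace ℂ _ (((g : V ≃ₗ[ℚ] V) : V →ₗ[ℚ] V).baseChange ℂ) = _
  rw [LinearMap.trace_baseChange]
  rfl

theorem chr_one : chr V (1 : MG) = 196884 := by
  have := fin
  show LinearMap.trace ℚ V (1 : Module.End ℚ V) = _
  rw [LinearMap.trace_one, M_finrank]
  norm_num

/-- A nontrivial irreducible character has degree at least 196883. -/
theorem triv_or {θ : MG → ℂ} (h : IsIrrCharacter MG θ) : θ = 1 ∨ ∃ n : ℕ, θ 1 = n ∧ 196883 ≤ n := by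
  have hfin := finite
  have := Fintype.ofFinite MG
  have hself := classInner_irr_self h
  obtain ⟨n, ρ, hirr, rfl⟩ := h
  by_cases hne : ∃ g, ρ g ≠ 1
  · right
    obtain ⟨g, hg⟩ := hne
    obtain ⟨e⟩ := Cfsg.Agent.MonsterP.Equiv.equiv
    have h1 := Cfsg.Agent.H847.MonDeg.bound (ρ.comp e.toMonoidHom) ⟨e.symm g, by
      show ρ (e (e.symm g)) ≠ 1
      rwa [e.apply_symm_apply]⟩
    rw [Module.finrank_fin_fun] at h1
    refine ⟨n, ?_, h1⟩
    rw [Representation.char_one, Module.finrank_fin_fun]
  · left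
    push Not at hne
    have h1 : ∀ g, ρ.character g = n := by
      intro g
      show LinearMap.trace ℂ _ (ρ g) = _
      rw [hne g, LinearMap.trace_one, Module.finrank_fin_fun]
    have h2 : classInner ρ.character ρ.character = (n : ℂ) * n := by
      unfold classInner
      have h3 : ∀ g : MG, ρ.character g * (starRingEnd ℂ) (ρ.character g) = (n : ℂ) * n := by
        intro g
        rw [h1 g, Complex.conj_natCast]
      rw [Finset.sum_congr rfl fun g _ => h3 g, Finset.sum_const, Finset.card_univ, nsmul_eq_mul,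
        ← Nat.card_eq_fintype_card, inv_mul_cancel_left₀ card_ne_zero_complex]
    rw [hself] at h2
    have h4 : n * n = 1 := by exact_mod_cast h2.symm
    have h5 : n = 1 := by
      rcases Nat.eq_one_of_mul_eq_one_right h4 with h
      exact h
    subst h5
    funext g
    rw [h1 g]
    norm_num


theorem card_MG : Nat.card MG = 808017424794512875886459904961710757005754368000000000 := by
  have h := card_M
  exact h

/-- **The irreducible character of degree 196883.** -/
theorem exists_chi {x : MG} (hx : chr V x ≠ 196884) :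
    ∃ χ : MG → ℂ, IsIrrCharacter MG χ ∧ ∀ g, χ g = ((chr V g : ℚ) : ℂ) - 1 := by
  classical
  have hfin := finite
  have := fin
  have := Fintype.ofFinite MG
  have := finite_irr (G := MG)
  have := Fintype.ofFinite (IrrCharacter MG)
  have hΘ : IsCharacter MG rho.character := isCharacter_of_rep rho
  obtain ⟨m, hm⟩ := exists_nat_comb hΘ
  obtain ⟨j, hj0, hj1⟩ : ∃ j, m j ≠ 0 ∧ (j : MG → ℂ) ≠ 1 := by
    by_contra hcon
    push Not at hcon
    apply hx
    have h1 : ∀ g, rho.character g = ∑ ψ : IrrCharacter MG, (m ψ : ℂ) := by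
      intro g
      rw [hm, Finset.sum_apply]
      refine Finset.sum_congr rfl fun ψ _ => ?_
      rw [Pi.smul_apply, nsmul_eq_mul]
      by_cases h : m ψ = 0
      · rw [h]; simp
      · rw [hcon ψ h]; simp
    have h2 := (h1 x).trans (h1 1).symm
    rw [rho_char, rho_char, chr_one] at h2
    exact_mod_cast h2
  let R : MG → ℂ := ∑ ψ : IrrCharacter MG, (m ψ - if ψ = j then 1 else 0) • (ψ : MG → ℂ)
  have hR : IsCharacter MG R := isCharacter_iff.2 ⟨_, rfl⟩
  have hsum : rho.character = R + (j : MG → ℂ) := by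
    rw [hm]
    have h1 : ∀ ψ : IrrCharacter MG, m ψ • (ψ : MG → ℂ) =
        (m ψ - if ψ = j then 1 else 0) • (ψ : MG → ℂ) + if ψ = j then (ψ : MG → ℂ) else 0 := by
      intro ψ
      by_cases h : ψ = j
      · subst h
        rw [if_pos rfl, if_pos rfl, ← succ_nsmul, Nat.sub_add_cancel (Nat.one_le_iff_ne_zero.2 hj0)]
      · rw [if_neg h, if_neg h, Nat.sub_zero, add_zero]
    rw [Finset.sum_congr rfl fun ψ _ => h1 ψ, Finset.sum_add_distrib, Finset.sum_ite_eq' Finset.univ j]
    rw [if_pos (Finset.mem_univ j)]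
  obtain ⟨n, hn, hn2⟩ := (triv_or j.2).resolve_left hj1
  obtain ⟨k, hk⟩ := isCharacter_apply_one hR
  have hkn : k + n = 196884 := by
    have h1 := congrFun hsum 1
    rw [Pi.add_apply, hk, hn, rho_char, chr_one] at h1
    exact_mod_cast h1.symm
  have hR1 : R = 1 := by
    obtain ⟨d, ρ, hρ⟩ := hR
    have hd : d = k := by
      rw [← hρ, Representation.char_one, Module.finrank_fin_fun] at hk
      exact_mod_cast hk
    subst hd
    have hd1 : d = 1 := by
      have h1 : n ≠ 196884 := by
        rintro rfl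
        have h2 := LargeExtra.W2.CharKill.Setup.apply_one_dvd j _ hn
        rw [card_MG] at h2
        norm_num at h2
      omega
    subst hd1
    have h1 : IsIrrCharacter MG R := ⟨1, ρ, isIrr_of_finrank_one (Module.finrank_fin_fun ℂ) ρ, hρ⟩
    rcases triv_or h1 with h2 | ⟨l, hl, hl2⟩
    · exact h2
    · exfalso
      rw [hk] at hl
      have : 1 = l := by exact_mod_cast hl
      omega
  refine ⟨j, j.2, fun g => ?_⟩
  have h1 := congrFun hsum g
  rw [Pi.add_apply, hR1, rho_char] at h1
  rw [h1]
  simp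


/-! ### The fixed space -/

/-- The character of the quotient on the fixed points of a normal subgroup. -/
theorem exists_quo {C : Type} [Group C] (N : Subgroup C) [N.Normal] [Fintype N] {θ : C → ℂ}
    (hθ : IsCharacter C θ) : ∃ W : C ⧸ N → ℂ, IsCharacter (C ⧸ N) W ∧
      ∀ g : C, W (QuotientGroup.mk g) = (Nat.card N : ℂ)⁻¹ * ∑ n : N, θ ((n : C) * g) := by
  obtain ⟨k, ρ, rfl⟩ := hθ
  refine ⟨(ρ.quotientToInvariants N).character, isCharacter_of_rep _, fun g => ?_⟩
  rw [← CharactersDeep.CosetAverage.character_toInvariants ρ N g]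
  rfl

theorem cube_order {x : MG} {y : XX x} (hx : orderOf x = 3) (hy : orderOf y = 29)
    {g : centralizer ({x} : Set MG)} (hg : QuotientGroup.mk g = y) : orderOf ((g : MG) ^ 3) = 29 := by
  refine orderOf_eq_prime_iff.2 ⟨?_, ?_⟩
  · have h1 : g ^ 29 ∈ LThreeMB.Zx x := by
      rw [← QuotientGroup.eq_one_iff, QuotientGroup.mk_pow, hg, ← hy, pow_orderOf_eq_one]
    have h2 : (g ^ 29) ^ 3 = 1 := by
      obtain ⟨k, hk⟩ := Subgroup.mem_zpowers_iff.1 h1
      rw [← hk]
      have h3 : (LThreeMB.self x) ^ 3 = 1 := by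
        apply Subtype.ext
        show x ^ 3 = 1
        rw [← hx, pow_orderOf_eq_one]
      rw [← zpow_natCast, ← zpow_mul, mul_comm, zpow_mul, zpow_natCast, h3, one_zpow]
    rw [← pow_mul, mul_comm, pow_mul]
    exact congrArg Subtype.val h2
  · intro h
    have h1 : y ^ 3 = 1 := by
      rw [← hg, ← QuotientGroup.mk_pow]
      have h2 : g ^ 3 = 1 := Subtype.ext h
      rw [h2]
      rfl
    have h3 := orderOf_dvd_of_pow_eq_one h1
    rw [hy] at h3
    norm_num at h3

/-- **The hypothesis of `H871.LD.deg_8671`.** -/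
theorem A1 (hM : ∃ x : MG, orderOf x = 3 ∧ Spor.IsoFi24' (XX x) ∧ chr V x = 783) :
    ∃ W : Spor.Fi24' → ℂ, IsCharacter Spor.Fi24' W ∧ W 1 = 66149 ∧ ∀ y : Spor.Fi24', orderOf y = 29 → W y = 0 := by
  classical
  obtain ⟨x, hx, ⟨e⟩, hchr⟩ := hM
  have hfin := finite
  obtain ⟨χ, hχ, hχv⟩ := exists_chi (x := x) (by rw [hchr]; norm_num)
  have hχc := isIrr_isCharacter hχ
  have hN : Fintype (LThreeMB.Zx x) := Fintype.ofFinite _
  obtain ⟨W, hW, hWv⟩ := exists_quo (LThreeMB.Zx x)
    (isCharacter_comp (centralizer ({x} : Set MG)).subtype hχc)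
  have hcard : Nat.card (LThreeMB.Zx x) = 3 := by
    rw [LThreeMB.Zx, Nat.card_zpowers, ← hx, ← Subgroup.orderOf_coe]
    rfl
  have hfinF : Finite Spor.Fi24' := Finite.of_equiv _ e.toEquiv
  have hW1 : W 1 = 66149 := by
    have h1 := hWv 1
    rw [hcard] at h1
    have h2 : ∑ n : LThreeMB.Zx x, χ ((n : MG) * 1) = 196883 + 2 * 782 := by
      have h3 := SmallSimple.TheoremBCor.sum_const_off (f := fun n : LThreeMB.Zx x => χ ((n : MG) * 1))
        (c := (782 : ℂ)) (by
          intro n hn
          have h4 : ((n : centralizer ({x} : Set MG)) : MG) ∈ Subgroup.zpowers x := by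
            obtain ⟨k, hk⟩ := Subgroup.mem_zpowers_iff.1 n.2
            exact Subgroup.mem_zpowers_iff.2 ⟨k, congrArg Subtype.val hk⟩
          have hx782 : χ x = 782 := by
            rw [hχv, hchr]; norm_num
          show χ ((n : MG) * 1) = 782
          rw [mul_one]
          rcases H849.ThreeNorm.mem_zp hx h4 with h | h | h
          · exact absurd (Subtype.ext (Subtype.ext h)) hn
          · rw [h, hx782]
          · rw [h, isCharacter_apply_inv hχc, hx782, Complex.conj_ofNat])
      rw [h3, hcard]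
      show χ (1 * 1) + _ = _
      rw [mul_one, hχv, chr_one]
      norm_num
    have h3 : W 1 = (3 : ℂ)⁻¹ * (196883 + 2 * 782) := by
      rw [← h2]
      simpa using h1
    rw [h3]
    norm_num
  refine ⟨fun y => W (e.symm y), isCharacter_comp e.symm.toMonoidHom hW, ?_, ?_⟩
  · show W (e.symm 1) = _
    rw [map_one, hW1]
  · intro y hy
    show W (e.symm y) = 0
    have hy' : orderOf (e.symm y) = 29 := by rw [MulEquiv.orderOf_eq, hy]
    obtain ⟨g, hg⟩ := QuotientGroup.mk_surjective (e.symm y)
    have hfinX : Finite (XX x) := inferInstance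
    have hv := hWv g
    rw [hcard, hg] at hv
    -- the value is rational
    obtain ⟨v, hv1⟩ := GaloisBasic.exists_int_of_isIntegral (GaloisBasic.isIntegral_apply hW (e.symm y)) (by
      refine ⟨3⁻¹ * ∑ n : LThreeMB.Zx x, (chr V ((n : MG) * g) - 1), ?_⟩
      rw [hv]
      push_cast
      congr 1
      exact Finset.sum_congr rfl fun n _ => hχv _)
    -- the bound
    have hb : ∀ n : LThreeMB.Zx x, ‖χ ((n : MG) * g)‖ ≤ 10 := by
      intro n
      have h1 : QuotientGroup.mk ((n : centralizer ({x} : Set MG)) * g) = e.symm y := by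
        rw [QuotientGroup.mk_mul, (QuotientGroup.eq_one_iff (n : centralizer ({x} : Set MG))).2 n.2, one_mul, hg]
      have h2 := cube_order hx hy' h1
      have h3 := H626.LD.TwentyNine.card_cent h2
      have h4 := H606.OreM.norm_sq_le (⟨χ, hχ⟩ : IrrCharacter MG) ((n : MG) * g)
      have h5 : Nat.card (centralizer ({((n : MG) * g : MG)} : Set MG)) ≤ 87 := by
        rw [← h3]
        refine Subgroup.card_le_of_le ?_
        intro c hc
        rw [mem_centralizer_singleton_iff] at hc ⊢
        exact (Commute.pow_right (show Commute c ((n : MG) * g) from hc) 3).eq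
      have h6 : ‖χ ((n : MG) * g)‖ ^ 2 ≤ 87 := h4.trans (by exact_mod_cast h5)
      nlinarith [norm_nonneg (χ ((n : MG) * g))]
    have hb2 : ‖W (e.symm y)‖ ≤ 10 := by
      rw [hv, norm_mul, norm_inv]
      have h1 : ‖∑ n : LThreeMB.Zx x, χ ((n : MG) * g)‖ ≤ 3 * 10 := by
        refine (norm_sum_le _ _).trans ((Finset.sum_le_sum fun n _ => hb n).trans ?_)
        rw [Finset.sum_const, Finset.card_univ, ← Nat.card_eq_fintype_card, hcard]
        norm_num
      have h2 : ‖((3 : ℕ) : ℂ)‖ = 3 := by norm_num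
      rw [h2]
      calc (3 : ℝ)⁻¹ * ‖∑ n : LThreeMB.Zx x, χ ((n : MG) * g)‖ ≤ 3⁻¹ * (3 * 10) := by gcongr
        _ = 10 := by norm_num
    have h29 := H935.Fi23.dvd_sub_of_int hW (n := 66149) (by rw [hW1]; norm_num) (by norm_num : Nat.Prime 29)
      hy' hv1
    have h30 : |v| ≤ 10 := by
      rw [hv1, Complex.norm_intCast] at hb2
      exact_mod_cast hb2
    rw [abs_le] at h30
    have h31 : v = 0 := by
      push_cast at h29
      omega
    rw [hv1, h31]
    norm_num

end Cfsg.Agent.H676.Fi24.W
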